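import Cfsg.Agent.H56.Exc.Sec

/-!
# Alternating groups have no big primes with a small automizer (helper363, after helper349's `KD4.Num`)
-/

set_option autoImplicit false

namespace Cfsg.Agent.H363.Wei

open Subgroup Cfsg.Agent.H56.Exc

/-- alternating groups are excluded by the automizer -/
theorem not_alt {S : Type*} [Group S] [Finite S] {r m e : ℕ} (h : Big S r m e) (he : 0 < e) (hr : r ∣ Nat.card S)
    (h9 : 2 * e + 1 < r) {k : ℕ} (Φ : S ≃* alternatingGroup (Fin k)) : False := by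
  have hp := h.prime
  have := Fact.mk hp
  have hb := h.congr Φ
  have hrk : r ≤ k := by
    have h1 : r ∣ k.factorial := by
      have h2 : r ∣ Nat.card (Equiv.Perm (Fin k)) :=
        (hr.trans (Nat.card_congr Φ.toEquiv).dvd).trans (Subgroup.card_subgroup_dvd_card _)
      rwa [Nat.card_perm, Nat.card_fin] at h2
    exact (hp.dvd_factorial).1 h1
  -- an `r`-cycle
  obtain ⟨σ, hσ⟩ : ∃ σ : Equiv.Perm (Fin k), σ.cycleType = {r} := by
    have := (Equiv.Perm.exists_with_cycleType_iff (Fin k) (m := {r})).2 ⟨by simpa using hrk, by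
      intro a ha
      rw [Multiset.mem_singleton] at ha
      rw [ha]; exact hp.two_le⟩
    exact this
  have hodd : Odd r := hp.odd_of_ne_two (by omega)
  have hσc : σ.IsCycle := by
    rw [← Equiv.Perm.card_cycleType_eq_one, hσ, Multiset.card_singleton]
  have hσo : orderOf σ = r := by
    rw [← Equiv.Perm.lcm_cycleType, hσ, Multiset.lcm_singleton, normalize_eq]
  have hσA : σ ∈ alternatingGroup (Fin k) := by
    rw [Equiv.Perm.mem_alternatingGroup, hσc.sign]
    have h1 : σ.support.card = r := by rw [← hσo, hσc.orderOf]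
    rw [h1, hodd.neg_one_pow, neg_neg]
  -- a generator of the units
  obtain ⟨g, hg⟩ := IsCyclic.exists_ofOrder_eq_natCard (α := (ZMod r)ˣ)
  rw [Nat.card_eq_fintype_card, ZMod.card_units r] at hg
  set n : ℕ := ZMod.val (g : ZMod r) with hn
  have hcop : n.Coprime (orderOf σ) := by rw [hσo]; exact ZMod.val_coe_unit_coprime g
  have hconj : IsConj σ (σ ^ n) := by
    rw [Equiv.Perm.isConj_iff_cycleType_eq, hσc.cycleType, (hσc.pow_iff.2 hcop).cycleType,
      Equiv.Perm.support_pow_coprime hcop]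
  obtain ⟨z, hz⟩ := isConj_iff.1 hconj
  have hpow : ∀ j : ℕ, z ^ j * σ * (z ^ j)⁻¹ = σ ^ (n ^ j) := by
    intro j
    induction j with
    | zero => simp
    | succ j ih =>
      calc z ^ (j + 1) * σ * (z ^ (j + 1))⁻¹ = z * (z ^ j * σ * (z ^ j)⁻¹) * z⁻¹ := by
            rw [pow_succ']; group
        _ = (z * σ * z⁻¹) ^ (n ^ j) := by rw [ih, conj_pow]
        _ = σ ^ (n ^ (j + 1)) := by rw [hz, ← pow_mul, pow_succ']
  have hzA : z ^ 2 ∈ alternatingGroup (Fin k) := by
    rw [Equiv.Perm.mem_alternatingGroup, map_pow, Int.units_sq]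
  have h1 := hb.aut ⟨σ, hσA⟩ ⟨z ^ 2, hzA⟩ (by rw [Subgroup.orderOf_mk, hσo]) ⟨((n ^ 2 : ℕ) : ℤ), by
    show (⟨σ, hσA⟩ : alternatingGroup (Fin k)) ^ ((n ^ 2 : ℕ) : ℤ) = _
    rw [zpow_natCast]
    exact Subtype.ext (hpow 2).symm⟩
  have h2 : (z ^ 2) ^ e * σ = σ * (z ^ 2) ^ e := congrArg Subtype.val h1.eq
  have h3 : σ ^ (n ^ (2 * e)) = σ := by
    rw [← hpow (2 * e), mul_inv_eq_iff_eq_mul]
    rw [← pow_mul] at h2
    exact h2
  have h4 : g ^ (2 * e) = 1 := by
    apply Units.ext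
    have h5 : n ^ (2 * e) ≡ 1 [MOD r] := by
      rw [← hσo]
      exact pow_eq_pow_iff_modEq.1 (by rw [h3, pow_one])
    have h6 := (ZMod.natCast_eq_natCast_iff _ _ _).2 h5
    rw [Nat.cast_pow, hn, ZMod.natCast_zmod_val, Nat.cast_one] at h6
    rw [Units.val_pow_eq_pow_val, h6, Units.val_one]
  have h5 := Nat.le_of_dvd (by omega) (orderOf_dvd_of_pow_eq_one h4)
  omega

end Cfsg.Agent.H363.Wei
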