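import Cfsg.Agent.H290.Cov.C30
import Cfsg.Agent.H363.Wei.Alt

/-!
# The name of a simple subgroup of `E₈(q)` containing the torus of class 30 (helper363)
-/

set_option autoImplicit false
set_option exponentiation.threshold 700

namespace Cfsg.Agent.H363.Wei

open Cfsg Cfsg.Agent.OrdDiv Cfsg.Agent.H436 Cfsg.Agent.H902 Cfsg.Agent.H902.Names Cfsg.Agent.H915.GN
  Cfsg.Agent.H290.ElReg Cfsg.Agent.H290.ElTab Cfsg.Agent.H264.FKS Cfsg.Agent.H56.Exc Cfsg.Agent.H290.Cov30 Cfsg.Agent.H325.Loc
open Cfsg.Agent.H563.KG (OL lt_of_prim)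

theorem svR_E8_30 : svR 248 .E8 [30] = true := by decide +kernel
theorem svS_E8_30 : svS .E8 [30] = true := by decide +kernel

theorem cls30 : Cls 30 := by unfold Cls; omega

/-- **The name, one class.** -/
theorem exists_name30 (tb : OrderTable.{0}) {p f : ℕ} (hp : p.Prime) (hf : 1 ≤ f) {F : Type} [Field F] [CharP F p]
    {S : Type} [Group S] [Finite S] [IsSimpleGroup S] (hna : ¬ IsMulCommutative S) (hK : IsKnownSimple' S)
    (hrep : Fth 248 F S) (hcls : ncl 30 (p ^ f) ∣ Nat.card S) (hd : Nat.card S ∣ OL .E8 (p ^ f)) {m : ℕ}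
    (hbig : ∀ r, Prim (p ^ f) 30 r → Big S r m 30) : ∃ g, IsNamed g S ∧ HasChar p g := by
  have hna' : ¬ ∀ a b : S, a * b = b * a := fun h => hna ⟨⟨h⟩⟩
  have hq : 2 ≤ p ^ f := hp.two_le.trans (Nat.le_self_pow (by omega) p)
  obtain ⟨g, hgS⟩ := exists_named tb hK hna'
  have hcls' : ∀ e ∈ [30], ncl e (p ^ f) ∣ Nat.card S := fun e he => by
    rw [List.mem_singleton] at he
    subst he
    exact hcls
  rcases Cfsg.Agent.H192.Singer.cases_name hgS.cond with ⟨k, rfl⟩ | hsp | ⟨l, hl, hch⟩
  · exfalso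
    obtain ⟨Φ⟩ : Nonempty (S ≃* alternatingGroup (Fin k)) := hgS.real
    have hk : 5 ≤ k := hgS.cond
    have h1 := window hq cls30 (by norm_num) (by omega) Φ hcls fun r hr x hx => by
      have := (hbig r hr).cyc x hx
      let _ := IsCyclic.commGroup (α := ↥(Subgroup.centralizer ({x} : Set S)))
      infer_instance
    obtain ⟨r, hr⟩ := exists_prim hq (show 3 ≤ 30 by omega) (by omega)
    have hrS : r ∣ Nat.card S := (dvd_ncl cls30 (by omega) hr).trans hcls
    have h2 : k ≤ r + 3 := by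
      refine Cfsg.Agent.H290.ElRich.alt_le hr.prime ?_ Φ hrS fun x hx => ?_
      · have := lt_of_prim hq (by norm_num) hr
        omega
      · have := (hbig r hr).cyc x hx
        let _ := IsCyclic.commGroup (α := ↥(Subgroup.centralizer ({x} : Set S)))
        infer_instance
    have h3 := ncl30_gt hq
    exact not_alt (hbig r hr) (by norm_num) hrS (by omega) Φ
  · exfalso
    have h1 := Cfsg.Agent.H192.Singer.spor_mem hsp
    have h2 : Nat.card S = ordN g := hgS.ord
    exact no_spor bndS_30 svS_E8_30 cls30 (by decide) (fun _ => le_seven30) h1 hp hf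
      (fun e he => by rw [← h2]; exact hcls' e he) (by rw [← h2]; exact hd)
  · by_cases hpl : p = l
    · subst hpl
      exact ⟨g, hgS, hch⟩
    · exfalso
      obtain ⟨X, f₁, h1, h2, -⟩ := exists_lie hl hgS hch
      have hlF : (l : F) ≠ 0 := by
        intro h
        exact hpl ((Nat.prime_dvd_prime_iff_eq hp hl).1 ((CharP.cast_eq_zero_iff F p l).1 h))
      have h3 := lb_le hna' (by norm_num) hrep h1 hgS.real h2 hlF
      exact no_cross (n := 248) (by norm_num) bndR_248_30 svR_E8_30 cls30 (by decide) (fun _ => le_seven30) h2 h3 hp hf hpl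
        hcls' hd

end Cfsg.Agent.H363.Wei
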