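import Cfsg.Agent.H363.Wei.One
import Cfsg.Agent.H363.Wei.Name30
import Cfsg.Agent.H325.IsoFree
import Cfsg.Agent.H563.KG.KE8
import Cfsg.Agent.H563.KG.Named

/-!
# Subgroups of `E₈(q)` containing the torus of order `Φ₃₀(q)`: the name of the simple section (helper363)
-/

set_option autoImplicit false

namespace Cfsg.Agent.H363.Wei

open Cfsg Cfsg.Agent.OrdDiv Cfsg.Agent.H436 Cfsg.Agent.H902 Cfsg.Agent.H290.ElReg Cfsg.Agent.H290.ElTab
  Cfsg.Agent.H56.Exc Cfsg.Agent.H325.Loc Cfsg.Agent.H915.GN Cfsg.Agent.H264.FKS Cfsg.Agent.H325.Same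
open Cfsg.Agent.H563.KG hiding ncl cc Ph Cls prim_of_dvd dvd_ncl ncl_dvd_Ph cast_Ph20
open Cfsg.Agent.H290.Cov30 (ncl Ph Cls prim_of_dvd dvd_ncl ncl_dvd_Ph cast_Ph30 ncl30_eq ncl30_gt Ph_dvd good_E8 Ph30_ge)

variable {F : Type} [Field F] [Fintype F]

theorem named_T (tb : OrderTable.{0}) {q : ℕ} (hq : Fintype.card F = q) : IsNamed (.e8 q) ↥(Lie.chevE8.group F) := by
  subst hq
  exact named_e8 (F := F) tb

theorem dT (tb : OrderTable.{0}) {q : ℕ} (hq : Fintype.card F = q) : Nat.card ↥(Lie.chevE8.group F) ∣ OL .E8 q := by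
  have hT := named_T (F := F) tb hq
  have hOL : num (.e8 q) = OL .E8 q := rfl
  rw [← hOL, ← hT.eq]
  exact Dvd.intro_left _ rfl

theorem big30 {q : ℕ} (hq : Fintype.card F = q) {r : ℕ} (hr : Prim q 30 r) : Big ↥(Lie.chevE8.group F) r (Ph 30 q) 30 := by
  have hq1 : 1 ≤ q := by rw [← hq]; exact Fintype.card_pos
  exact big_E8_30 hq (by rw [cast_Ph30 _ hq1]; ring) hr

/-- the primes of the torus -/
theorem prim_iff {q r : ℕ} (hq : 1 ≤ q) : (r.Prime ∧ r ∣ Ph 30 q) ↔ Prim q 30 r := by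
  constructor
  · rintro ⟨h1, h2⟩
    rw [← ncl30_eq] at h2
    exact prim_of_dvd cls30 hq h1 h2
  · intro h
    refine ⟨h.prime, ?_⟩
    rw [← ncl30_eq]
    exact dvd_ncl cls30 hq h

open Subgroup in
/-- **The structure of the overgroups.** -/
theorem core30 (tb : OrderTable.{0}) (hcyc : CycFixSolv.{0}) (hcf : CF) {p f : ℕ} [CharP F p] (hp : p.Prime) (hf : 1 ≤ f)
    (hq : Fintype.card F = p ^ f) {x : ↥(Lie.chevE8.group F)} (hx : orderOf x = Ph 30 (p ^ f))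
    (H : Subgroup ↥(Lie.chevE8.group F)) (hxH : x ∈ H) :
    H ≤ normalizer (zpowers x : Set ↥(Lie.chevE8.group F)) ∨ ∃ (S : Subgroup H) (_ : S.Normal) (_ : IsSimpleGroup S),
      ¬ IsMulCommutative S ∧ centralizer (S : Set H) = ⊥ ∧ (⟨x, hxH⟩ : H) ∈ S ∧
      (∀ r, Prim (p ^ f) 30 r → Big S r (Ph 30 (p ^ f)) 30) ∧ ∃ g, IsNamed g S ∧ HasChar p g := by
  have := Fact.mk hp
  have hq2 : 2 ≤ p ^ f := hp.two_le.trans (Nat.le_self_pow (by omega) p)
  have hq1 : 1 ≤ p ^ f := by omega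
  have hfin : Finite ↥(Lie.chevE8.group F) := inferInstance
  have hgt := Ph30_ge hq2
  have h8 : 2 ^ 8 ≤ (p ^ f) ^ 8 := Nat.pow_le_pow_left hq2 8
  have hbig : ∀ r, r.Prime → r ∣ Ph 30 (p ^ f) → Big H r (Ph 30 (p ^ f)) 30 := fun r hr hrd =>
    (big30 hq ((prim_iff hq1).1 ⟨hr, hrd⟩)).subgroup H
  have hy : orderOf (⟨x, hxH⟩ : H) = Ph 30 (p ^ f) := by rw [Subgroup.orderOf_mk, hx]
  obtain ⟨r₀, hr₀⟩ := exists_prim hq2 (show 3 ≤ 30 by omega) (by omega)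
  have hr₀H : r₀ ∣ Nat.card H := by
    have h1 := ((prim_iff hq1).2 hr₀).2
    rw [← hy] at h1
    exact h1.trans (orderOf_dvd_natCard _)
  have hpiso : PIso p r₀ ↥(Lie.chevE8.group F) :=
    Cfsg.Agent.H325.IsoFree.piso_E8_30 (F := F) (by rw [hq]; exact hr₀)
  obtain ⟨τ, hτ⟩ := (fth_E8 (F := F)).sub H.subtype H.subtype_injective
  have hred : Red H (fun r => r.Prime ∧ r ∣ Ph 30 (p ^ f)) := by
    refine red_of hcyc hτ (fun A hA hAp => pcore_of_piso (hpiso.sub H) hr₀H A hA hAp)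
      ((prim_iff hq1).2 hr₀) hr₀.prime hr₀H
      (fun y hy => ((big30 hq hr₀).subgroup H).cyc y hy) fun t ht htp htn htB => ?_
    rw [Fintype.card_fin]
    refine good_E8 (by norm_num) hq2 (fun r hr y hy => ((big30 hq hr).subgroup H).card y hy) ?_ ht
      fun h => htn ((prim_iff hq1).2 h)
    rw [ncl30_eq, ← hy]
    exact orderOf_dvd_natCard _
  rcases one_torus hcyc (n := Ph 30 (p ^ f)) (m := Ph 30 (p ^ f)) (e := 30) (by omega) hbig (by omega)
    (by rw [mul_comm]; exact Nat.mul_lt_mul_of_pos_left (by omega) (by omega)) hy hred with h1 | ⟨S, hSn, hSs, hSna, hC, hyS, hS, -⟩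
  · left
    intro g hg
    refine mem_norm_zpowers ?_
    have h2 := h1.conj_mem _ (mem_zpowers (⟨x, hxH⟩ : H)) ⟨g, hg⟩
    obtain ⟨k, hk⟩ := h2
    exact ⟨k, congrArg Subtype.val hk⟩
  · right
    have hbS : ∀ r, Prim (p ^ f) 30 r → Big S r (Ph 30 (p ^ f)) 30 := fun r hr =>
      (hS r hr.prime ((prim_iff hq1).2 hr).2).1
    have hcls : ncl 30 (p ^ f) ∣ Nat.card S := by
      rw [ncl30_eq, ← hy, ← Subgroup.orderOf_mk _ hyS]
      exact orderOf_dvd_natCard _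
    have hdS : Nat.card S ∣ OL .E8 (p ^ f) :=
      ((Subgroup.card_subgroup_dvd_card S).trans (Subgroup.card_subgroup_dvd_card H)).trans (dT tb hq)
    refine ⟨S, hSn, hSs, hSna, hC, hyS, hbS, ?_⟩
    exact exists_name30 tb hp hf hSna (hcf S)
      (((fth_E8 (F := F)).sub H.subtype H.subtype_injective).sub S.subtype S.subtype_injective) hcls hdS hbS

end Cfsg.Agent.H363.Wei
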