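import Cfsg.Agent.H363.Wei.RowE8
import Cfsg.Agent.H811.Spr.NoTen
import Cfsg.Agent.H811.Spr.PsuTen
import Cfsg.Agent.H563.KG.CycFix
import Cfsg.Agent.OrdDiv.Table
import Cfsg.Agent.S0000

/-!
# The overgroups of the torus of order `Φ₃₀(q)` in `E₈(q)`, without hypotheses (helper363)
-/

set_option autoImplicit false

namespace Cfsg.Agent.H363.Wei

open Cfsg Cfsg.Agent.OrdDiv Cfsg.Agent.H436 Cfsg.Agent.H56.Wei
open Cfsg.Agent.H290.Cov30 (Ph)
open Cfsg.Agent.H563.KG (CF)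

theorem noU : NoU := by
  intro F _ _ hF H S hS
  obtain ⟨x, hx⟩ := Cfsg.Agent.H811.Spr.exists_341 hS
  refine Cfsg.Agent.H811.Spr.no_341 hF ((x : H) : ↥(Lie.chevE8.group F)) ?_
  rw [Subgroup.orderOf_coe, Subgroup.orderOf_coe, hx]

theorem cf : CF := fun _ _ _ _ => Cfsg.Agent.S0000.result

/-- **`E₈(q)`: every proper subgroup containing an element `x` of order `Φ₃₀(q)` normalises `⟨x⟩`.** -/
theorem e8_le {q : ℕ} {T : Type*} [Group T] (hT : IsNamed (.e8 q) T) {x : T} (hx : orderOf x = Ph 30 q)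
    (H : Subgroup T) (hxH : x ∈ H) (hH : H ≠ ⊤) : H ≤ Subgroup.normalizer (Subgroup.zpowers x : Set T) :=
  over_E8_le Cfsg.Agent.OrdDiv.table Cfsg.Agent.H563.KG.cycFixSolv cf noU hT hx H hxH hH

theorem e8_over {q : ℕ} {T : Type*} [Group T] (hT : IsNamed (.e8 q) T) {x : T} (hx : orderOf x = Ph 30 q) :
    Over x (fun _ => False) :=
  over_E8 Cfsg.Agent.OrdDiv.table Cfsg.Agent.H563.KG.cycFixSolv cf noU hT hx

/-- **The row `E₈` of S3938.** -/
theorem row_e8 {q : ℕ} : Cfsg.Agent.H862.Spr.Row (.e8 q) :=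
  row_E8 Cfsg.Agent.OrdDiv.table Cfsg.Agent.H563.KG.cycFixSolv cf noU

end Cfsg.Agent.H363.Wei
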