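import Cfsg.Agent.H290.Cov.E8
import Cfsg.Agent.H56.Exc.BigTF4
import Cfsg.Agent.OddCyclic.ClaimC.SzIso
import Cfsg.Agent.S2238
import Cfsg.Agent.S1159

/-!
# Own characteristic: exceptional groups without self-centralising element of order `Φ₃₀(q)` (helper363)
-/

set_option autoImplicit false

namespace Cfsg.Agent.H363.Wei

open Cfsg Cfsg.Agent.OrdDiv Cfsg.Agent.H436 Cfsg.Agent.H56.Exc
open Cfsg.Agent.H290.Cov30 (ncl Ph Cls prim_of_dvd dvd_ncl cast_Ph30 ncl30_eq Ph30_ge exists_gen Ph30_eq)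

/-- the order of an element commuting with an element of order `r` -/
theorem orderOf_dvd_of_card {S : Type*} [Group S] [Finite S] {r m : ℕ}
    (hb : ∀ x : S, orderOf x = r → Nat.card ↥(Subgroup.centralizer {x}) ∣ m) {w : S} (hr : r.Prime)
    (hrw : r ∣ orderOf w) : orderOf w ∣ m := by
  obtain ⟨k, hk⟩ := hrw
  have h0 : 0 < orderOf w := orderOf_pos w
  have hk0 : k ≠ 0 := by rintro rfl; omega
  have h1 : orderOf (w ^ k) = r := by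
    rw [orderOf_pow_of_dvd hk0 (by rw [hk]; exact dvd_mul_left _ _), hk, Nat.mul_div_cancel _ (Nat.pos_of_ne_zero hk0)]
  refine dvd_trans ?_ (hb _ h1)
  have h2 : w ∈ Subgroup.centralizer ({w ^ k} : Set S) := by
    rw [Subgroup.mem_centralizer_singleton_iff]
    exact ((Commute.refl w).pow_right k).eq
  rw [← Subgroup.orderOf_mk w h2]
  exact orderOf_dvd_natCard _

/-- a torus of order `Φ₃₀(q) Φ₆(q)` is too large -/
theorem not_dvd_big {q : ℕ} (hq : 2 ≤ q) {N : ℕ} (hN : (N : ℤ) = (q : ℤ) ^ 10 - (q : ℤ) ^ 5 + 1) : ¬ N ∣ Ph 30 q := by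
  intro h
  have h1 := Nat.le_of_dvd (by have := Ph30_ge hq; omega) h
  have h2 : (N : ℤ) ≤ (Ph 30 q : ℕ) := by exact_mod_cast h1
  rw [hN, cast_Ph30 ℤ (by omega)] at h2
  have h3 : (2 : ℤ) ≤ q := by exact_mod_cast hq
  have h4 : (q : ℤ) ^ 10 - (q : ℤ) ^ 5 + 1 = ((q : ℤ) ^ 8 + (q : ℤ) ^ 7 - (q : ℤ) ^ 5 - (q : ℤ) ^ 4 - (q : ℤ) ^ 3 + (q : ℤ) + 1) *
    ((q : ℤ) ^ 2 - (q : ℤ) + 1) := by ring
  have h5 := Ph30_ge hq
  have h6 : (0 : ℤ) < (q : ℤ) ^ 8 + (q : ℤ) ^ 7 - (q : ℤ) ^ 5 - (q : ℤ) ^ 4 - (q : ℤ) ^ 3 + (q : ℤ) + 1 := by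
    rw [← cast_Ph30 ℤ (show 1 ≤ q by omega)]
    have : 0 < Ph 30 q := by omega
    exact_mod_cast this
  rw [h4] at h2
  have h7 : (3 : ℤ) ≤ (q : ℤ) ^ 2 - (q : ℤ) + 1 := by nlinarith
  have h8 := mul_le_mul_of_nonneg_left h7 h6.le
  linarith

theorem prim_dvd_big {q r : ℕ} (hq : 1 ≤ q) (hr : Prim q 30 r) {N : ℕ} (hN : (N : ℤ) = (q : ℤ) ^ 10 - (q : ℤ) ^ 5 + 1) :
    r ∣ N := by
  have h1 : r ∣ Ph 30 q := by
    rw [← ncl30_eq]
    exact dvd_ncl (by unfold Cls; omega) hq hr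
  refine h1.trans ?_
  rw [← Int.natCast_dvd_natCast, hN, cast_Ph30 ℤ hq]
  exact ⟨(q : ℤ) ^ 2 - (q : ℤ) + 1, by ring⟩

section Kill

variable {S : Type*} [Group S] {p f f₁ r : ℕ}

theorem cast_N {q Q : ℕ} (h : Q ^ 2 = q ^ 5) : ((Q ^ 4 - Q ^ 2 + 1 : ℕ) : ℤ) = (q : ℤ) ^ 10 - (q : ℤ) ^ 5 + 1 := by
  have h1 : (Q : ℤ) ^ 2 = (q : ℤ) ^ 5 := by exact_mod_cast h
  have h2 : Q ^ 2 ≤ Q ^ 4 := by
    rcases Nat.eq_zero_or_pos Q with rfl | h0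
    · norm_num
    · exact Nat.pow_le_pow_right h0 (by norm_num)
  rw [Nat.cast_add, Nat.cast_sub h2]
  push_cast
  have h3 : (Q : ℤ) ^ 4 = (q : ℤ) ^ 10 := by
    have : (Q : ℤ) ^ 4 = ((Q : ℤ) ^ 2) ^ 2 := by ring
    rw [this, h1]; ring
  rw [h3, h1]

theorem pow_eq {a : ℕ} {b : ℕ} (h : f₁ * a = f * b) : (p ^ f₁) ^ a = (p ^ f) ^ b := by
  rw [← pow_mul, ← pow_mul, h]

theorem zpow_eq {a : ℕ} {b : ℕ} (h : f₁ * a = f * b) : ((p ^ f₁ : ℕ) : ℤ) ^ a = ((p ^ f : ℕ) : ℤ) ^ b := by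
  have := pow_eq (p := p) h
  exact_mod_cast this

theorem kill_g2 (hp : p.Prime) (hf : 1 ≤ f) (hS : IsNamed (.g2 (p ^ f₁)) S) (h : f₁ * 6 = f * 30)
    (hr : Prim (p ^ f) 30 r) (hb : ∀ x : S, orderOf x = r → Nat.card ↥(Subgroup.centralizer {x}) ∣ Ph 30 (p ^ f)) :
    False := by
  obtain ⟨F, _, _, hF, ⟨φ⟩⟩ := hS.real
  have hq : 2 ≤ p ^ f := hp.two_le.trans (Nat.le_self_pow (by omega) p)
  have hfin : Finite S := Finite.of_equiv _ φ.symm.toEquiv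
  have h1 : p ^ f₁ = (p ^ f) ^ 5 := by
    rw [← pow_mul]; congr 1; omega
  obtain ⟨N, hN⟩ : ∃ N : ℕ, (N : ℤ) = 1 - ((p ^ f₁ : ℕ) : ℤ) + ((p ^ f₁ : ℕ) : ℤ) ^ 2 := by
    refine ⟨_, Int.toNat_of_nonneg ?_⟩
    nlinarith [sq_nonneg (((p ^ f₁ : ℕ) : ℤ) - 1)]
  have hN' : (N : ℤ) = ((p ^ f : ℕ) : ℤ) ^ 10 - ((p ^ f : ℕ) : ℤ) ^ 5 + 1 := by
    rw [hN, h1]; push_cast; ring
  have hrN : r ∣ N := prim_dvd_big (by omega) hr hN'
  have hr3 : r ≠ 3 := by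
    have := Cfsg.Agent.H563.KG.lt_of_prim hq (by norm_num) hr
    omega
  obtain ⟨w, hw⟩ := exists_gen (Cfsg.Agent.H129.CycCard.card_G2_6 hF hN hr.prime
    (by rw [← hN]; exact Int.natCast_dvd_natCast.2 hrN) hr3)
  have hw' : orderOf (φ.symm w) = N := by rw [← hw]; exact φ.symm.orderOf_eq w
  exact not_dvd_big hq hN' (hw' ▸ orderOf_dvd_of_card hb (w := φ.symm w) hr.prime (by rw [hw']; exact hrN))

theorem kill_f4 (hp : p.Prime) (hf : 1 ≤ f) (hS : IsNamed (.f4 (p ^ f₁)) S) (h : f₁ * 12 = f * 30)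
    (hr : Prim (p ^ f) 30 r) (hb : ∀ x : S, orderOf x = r → Nat.card ↥(Subgroup.centralizer {x}) ∣ Ph 30 (p ^ f)) :
    False := by
  obtain ⟨F, _, _, hF, ⟨φ⟩⟩ := hS.real
  have hq : 2 ≤ p ^ f := hp.two_le.trans (Nat.le_self_pow (by omega) p)
  have hfin : Finite S := Finite.of_equiv _ φ.symm.toEquiv
  have h1 := zpow_eq (p := p) (show f₁ * 2 = f * 5 by omega)
  have h2 := zpow_eq (p := p) (show f₁ * 4 = f * 10 by omega)
  obtain ⟨N, hN⟩ : ∃ N : ℕ, (N : ℤ) = 1 - ((p ^ f₁ : ℕ) : ℤ) ^ 2 + ((p ^ f₁ : ℕ) : ℤ) ^ 4 := by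
    refine ⟨_, Int.toNat_of_nonneg ?_⟩
    nlinarith [sq_nonneg (((p ^ f₁ : ℕ) : ℤ) ^ 2 - 1)]
  have hN' : (N : ℤ) = ((p ^ f : ℕ) : ℤ) ^ 10 - ((p ^ f : ℕ) : ℤ) ^ 5 + 1 := by
    rw [hN, h1, h2]; ring
  have hrN : r ∣ N := prim_dvd_big (by omega) hr hN'
  obtain ⟨w, hw⟩ := exists_gen (Cfsg.Agent.H129.CycCard.card_F4_12 hF hN hr.prime
    (by rw [← hN]; exact Int.natCast_dvd_natCast.2 hrN))
  have hw' : orderOf (φ.symm w) = N := by rw [← hw]; exact φ.symm.orderOf_eq w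
  exact not_dvd_big hq hN' (hw' ▸ orderOf_dvd_of_card hb (w := φ.symm w) hr.prime (by rw [hw']; exact hrN))

theorem kill_td4 (hp : p.Prime) (hf : 1 ≤ f) (hS : IsNamed (.td4 (p ^ f₁)) S) (h : f₁ * 12 = f * 30)
    (hr : Prim (p ^ f) 30 r) (hb : ∀ x : S, orderOf x = r → Nat.card ↥(Subgroup.centralizer {x}) ∣ Ph 30 (p ^ f)) :
    False := by
  obtain ⟨F, _, _, hF, ⟨φ⟩⟩ := hS.real
  have hq : 2 ≤ p ^ f := hp.two_le.trans (Nat.le_self_pow (by omega) p)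
  have hfin : Finite S := Finite.of_equiv _ φ.symm.toEquiv
  have h1 := zpow_eq (p := p) (show f₁ * 2 = f * 5 by omega)
  have h2 := zpow_eq (p := p) (show f₁ * 4 = f * 10 by omega)
  obtain ⟨N, hN⟩ : ∃ N : ℕ, (N : ℤ) = 1 - ((p ^ f₁ : ℕ) : ℤ) ^ 2 + ((p ^ f₁ : ℕ) : ℤ) ^ 4 := by
    refine ⟨_, Int.toNat_of_nonneg ?_⟩
    nlinarith [sq_nonneg (((p ^ f₁ : ℕ) : ℤ) ^ 2 - 1)]
  have hN' : (N : ℤ) = ((p ^ f : ℕ) : ℤ) ^ 10 - ((p ^ f : ℕ) : ℤ) ^ 5 + 1 := by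
    rw [hN, h1, h2]; ring
  have hrN : r ∣ N := prim_dvd_big (by omega) hr hN'
  obtain ⟨w, hw⟩ := exists_gen (Cfsg.Agent.H129.CycCard.card_tD4_12 (hp.isPrimePow.pow (by omega)) hF hN hr.prime
    (by rw [← hN]; exact Int.natCast_dvd_natCast.2 hrN))
  have hw' : orderOf (φ.symm w) = N := by rw [← hw]; exact φ.symm.orderOf_eq w
  exact not_dvd_big hq hN' (hw' ▸ orderOf_dvd_of_card hb (w := φ.symm w) hr.prime (by rw [hw']; exact hrN))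

/-! ### twisted groups: the element itself is too large -/

theorem kill_ree (hp : p.Prime) (hf : 1 ≤ f) (hS : IsNamed (.ree (p ^ f₁)) S) (h : f₁ * 6 = f * 30) {x : S}
    (hx : orderOf x = Ph 30 (p ^ f)) : False := by
  obtain ⟨F, _, _, m, hm, hF, hpm, ⟨φ⟩⟩ := hS.real
  have hq : 2 ≤ p ^ f := hp.two_le.trans (Nat.le_self_pow (by omega) p)
  have h1 : p ^ f₁ = (p ^ f) ^ 5 := by
    rw [← pow_mul]; congr 1; omega
  have h2 := (Cfsg.Agent.S1159.result hm (by rw [hF, hpm]) (Ph 30 (p ^ f))).1 ⟨φ x, by rw [← hx]; exact φ.orderOf_eq x⟩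
  rw [← hpm] at h2
  have h3 := Ph30_ge hq
  set q := p ^ f with hqdef
  set Q := p ^ f₁ with hQdef
  have hQ : 32 ≤ Q := by
    rw [h1]
    exact Nat.pow_le_pow_left hq 5
  have h8 : 8 * Q ≤ q ^ 8 := by
    rw [h1]
    have : q ^ 8 = q ^ 3 * q ^ 5 := by ring
    rw [this]
    exact Nat.mul_le_mul_right _ (by
      calc 8 = 2 ^ 3 := by norm_num
        _ ≤ q ^ 3 := Nat.pow_le_pow_left hq 3)
  have h9 : 3 ^ (m + 1) ≤ Q := by
    rw [hpm]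
    exact Nat.pow_le_pow_right (by norm_num) (by omega)
  clear_value Q q
  generalize 3 ^ (m + 1) = t at h2 h9
  clear hpm hF
  have hle : ∀ {n : ℕ}, 0 < n → n ≤ 2 * Q + 1 → ¬ Ph 30 q ∣ n := by
    intro n hn0 hn hd
    have := Nat.le_of_dvd hn0 hd
    omega
  rcases h2 with h4 | h4 | h4 | h4 | h4 | h4
  · exact hle (by norm_num) (by omega) h4
  · exact hle (by norm_num) (by omega) h4
  · exact hle (by omega) (by omega) h4
  · exact hle (by omega) (by omega) h4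
  · exact hle (by omega) (by omega) h4
  · exact hle (by omega) (by omega) h4

theorem kill_sz (hp : p.Prime) (hf : 1 ≤ f) (hS : IsNamed (.sz (p ^ f₁)) S) (h : f₁ * 4 = f * 30) {x : S}
    (hx : orderOf x = Ph 30 (p ^ f)) : False := by
  obtain ⟨F, _, _, m, hm, hF, hpm, ⟨φ⟩⟩ := hS.real
  have hq : 2 ≤ p ^ f := hp.two_le.trans (Nat.le_self_pow (by omega) p)
  have hp2 : p = 2 := by
    have h4 : p ∣ 2 ^ (2 * m + 1) := by
      rw [← hpm]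
      exact dvd_pow_self p (by omega)
    exact (Nat.prime_dvd_prime_iff_eq hp Nat.prime_two).1 (hp.dvd_of_dvd_pow h4)
  subst hp2
  have hf₁ : f₁ = 2 * m + 1 := Nat.pow_right_injective (le_refl 2) hpm
  obtain ⟨ψ⟩ := Cfsg.Agent.OddCyclic.ClaimC.SzIso.iso (F := F) hm (by rw [hF, hf₁])
  set y := ψ.symm (φ x) with hydef
  have hy : orderOf y = Ph 30 (2 ^ f) := by
    rw [hydef, ← hx]
    exact (ψ.symm.orderOf_eq (φ x)).trans (φ.orderOf_eq x)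
  have h3 := Ph30_ge hq
  have h3' := Ph30_eq (q := 2 ^ f) (by omega)
  have hodd : Ph 30 (2 ^ f) % 2 = 1 := by
    have hev : ∀ k, 1 ≤ k → (2 ^ f) ^ k % 2 = 0 := fun k hk => by
      have : 2 ∣ (2 ^ f) ^ k := dvd_pow (dvd_pow_self 2 (by omega)) (by omega)
      omega
    have e3 := hev 3 (by norm_num)
    have e4 := hev 4 (by norm_num)
    have e5 := hev 5 (by norm_num)
    have e7 := hev 7 (by norm_num)
    have e8 := hev 8 (by norm_num)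
    have e1 := hev 1 (by norm_num)
    rw [pow_one] at e1
    omega
  have h8 : 2 ^ 8 ≤ (2 ^ f) ^ 8 := Nat.pow_le_pow_left hq 8
  have hy1 : y ≠ 1 := by
    rintro h0
    rw [h0, orderOf_one] at hy
    omega
  obtain ⟨U, ⟨hU, hyU⟩, -⟩ := Cfsg.Agent.S2238.result hm (by rw [hF, hf₁]) y hy1
  have hyd : Ph 30 (2 ^ f) ∣ Nat.card U := by
    rw [← hy, ← Subgroup.orderOf_mk y hyU]
    exact orderOf_dvd_natCard _
  rcases hU with ⟨P, rfl⟩ | ⟨-, hU⟩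
  · obtain ⟨k, hk⟩ := P.isPGroup'.exists_card_eq
    rw [hk] at hyd
    have h5 : Ph 30 (2 ^ f) = 1 := by
      refine Nat.Coprime.eq_one_of_dvd (Nat.Coprime.pow_right k ?_) hyd
      exact (Nat.coprime_two_right).2 (Nat.odd_iff.2 hodd)
    omega
  · have h6 : 2 ^ (m + 1) + 2 ≤ 2 ^ (2 * m + 1) := by
      have e1 : 2 ^ (m + 2) ≤ 2 ^ (2 * m + 1) := Nat.pow_le_pow_right (by norm_num) (by omega)
      have e2 : 2 ^ (m + 2) = 2 * 2 ^ (m + 1) := by rw [← pow_succ']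
      have e3 : 2 ^ 1 ≤ 2 ^ (m + 1) := Nat.pow_le_pow_right (by norm_num) (by omega)
      rw [e2] at e1
      omega
    have h10 : 2 * 2 ^ (2 * m + 1) ≤ (2 ^ f) ^ 8 := by
      rw [← pow_succ', ← pow_mul]
      exact Nat.pow_le_pow_right (by norm_num) (by omega)
    have h9 := Nat.le_of_dvd Nat.card_pos hyd
    generalize 2 ^ (m + 1) = t at hU h6
    generalize 2 ^ (2 * m + 1) = Q at hU h6 h10
    have hle : Nat.card U ≤ 2 * Q - 1 := by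
      rcases hU with h7 | h7 | h7
      · rw [h7]; omega
      · rw [h7]; omega
      · rw [Set.mem_singleton_iff.1 h7]; omega
    generalize (2 ^ f) ^ 8 = c at h10 h3
    generalize Ph 30 (2 ^ f) = c' at h9 h3
    omega

theorem kill_tf4 (hp : p.Prime) (hf : 1 ≤ f) (hS : IsNamed (.tf4 (p ^ f₁)) S) (h : f₁ * 12 = f * 30) {x : S}
    (hr : Prim (p ^ f) 30 r) (hx : orderOf x = Ph 30 (p ^ f)) : False := by
  obtain ⟨F, _, _, m, hm, hF, hpm, ⟨φ⟩⟩ := hS.real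
  have hq : 2 ≤ p ^ f := hp.two_le.trans (Nat.le_self_pow (by omega) p)
  have hp2 : p = 2 := by
    have h4 : p ∣ 2 ^ (2 * m + 1) := by
      rw [← hpm]
      exact dvd_pow_self p (by omega)
    exact (Nat.prime_dvd_prime_iff_eq hp Nat.prime_two).1 (hp.dvd_of_dvd_pow h4)
  subst hp2
  have hf₁ : f₁ = 2 * m + 1 := Nat.pow_right_injective (le_refl 2) hpm
  have hF' : Fintype.card F = 2 ^ (2 * m + 1) := by rw [hF, hf₁]
  have hfin : Finite ↥(Lie.twistedF4 F (2 ^ m)) := inferInstance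
  have hx' : orderOf (φ x) = Ph 30 (2 ^ f) := by rw [← hx]; exact φ.orderOf_eq x
  have hrx : r ∣ Ph 30 (2 ^ f) := by
    rw [← ncl30_eq]
    exact dvd_ncl (by unfold Cls; omega) (by omega) hr
  have hxm : 2 ≤ 2 ^ m := Nat.le_self_pow (by omega) 2
  have h3 := Ph30_ge hq
  -- the bound
  have hQ : 2 * (2 ^ m) ^ 2 = 2 ^ f₁ := by rw [hf₁]; ring
  have hb4 : 13 * (2 ^ m) ^ 4 ≤ (2 ^ f) ^ 8 := by
    have e1 : 4 * (2 ^ m) ^ 4 = (2 ^ f) ^ 5 := by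
      have : 4 * (2 ^ m) ^ 4 = (2 * (2 ^ m) ^ 2) ^ 2 := by ring
      rw [this, hQ, ← pow_mul, ← pow_mul]
      congr 1
      omega
    have hf2 : 2 ≤ f := by omega
    have e2 : 4 ≤ (2 ^ f) ^ 3 := by
      calc 4 = 2 ^ 2 := by norm_num
        _ ≤ 2 ^ (f * 3) := Nat.pow_le_pow_right (by norm_num) (by omega)
        _ = (2 ^ f) ^ 3 := by rw [pow_mul]
    have e3 : (2 ^ f) ^ 8 = (2 ^ f) ^ 3 * (2 ^ f) ^ 5 := by ring
    rw [e3, ← e1]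
    calc 13 * (2 ^ m) ^ 4 ≤ 4 * (4 * (2 ^ m) ^ 4) := by omega
      _ ≤ (2 ^ f) ^ 3 * (4 * (2 ^ m) ^ 4) := Nat.mul_le_mul_right _ e2
  have hmP : mP (2 ^ m) ≤ 13 * (2 ^ m) ^ 4 := by
    unfold mP
    have a0 : 1 ≤ (2 ^ m) ^ 4 := Nat.one_le_pow _ _ (by omega)
    have a1 : 2 ^ m ≤ (2 ^ m) ^ 4 := Nat.le_self_pow (by norm_num) _
    have a2 : (2 ^ m) ^ 2 ≤ (2 ^ m) ^ 4 := Nat.pow_le_pow_right (by omega) (by norm_num)
    have a3 : (2 ^ m) ^ 3 ≤ (2 ^ m) ^ 4 := Nat.pow_le_pow_right (by omega) (by norm_num)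
    omega
  have hmM : mM (2 ^ m) ≤ mP (2 ^ m) := by
    have h5 := cast_mM hxm
    have h6 := cast_mP (2 ^ m)
    have h7 : (mM (2 ^ m) : ℤ) ≤ mP (2 ^ m) := by
      rw [h5, h6]
      have : (0 : ℤ) ≤ ((2 ^ m : ℕ) : ℤ) := Int.natCast_nonneg _
      have : (0 : ℤ) ≤ ((2 ^ m : ℕ) : ℤ) ^ 3 := pow_nonneg this 3
      linarith
    exact_mod_cast h7
  have hpos : 0 < mM (2 ^ m) := by
    by_contra h0
    have h5 := cast_mM hxm
    have h6 : mM (2 ^ m) = 0 := by omega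
    rw [h6] at h5
    have h7 : (2 : ℤ) ≤ ((2 ^ m : ℕ) : ℤ) := by exact_mod_cast hxm
    generalize ((2 ^ m : ℕ) : ℤ) = y at h5 h7
    have h8 : 0 ≤ 4 * y ^ 3 * (y - 2) := mul_nonneg (by positivity) (by linarith)
    have h9 : 0 ≤ 2 * y * (y - 2) := mul_nonneg (by positivity) (by linarith)
    have h10 : (0 : ℤ) ≤ y ^ 3 := by positivity
    push_cast at h5
    nlinarith
  have hprod : r ∣ mP (2 ^ m) * mM (2 ^ m) := by
    have h5 : (r : ℤ) ∣ ((mP (2 ^ m) * mM (2 ^ m) : ℕ) : ℤ) := by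
      push_cast
      have e1 := mP_mul_mM hxm
      push_cast at e1
      rw [e1]
      obtain ⟨N, hN⟩ : ∃ N : ℕ, (N : ℤ) = 1 - ((2 ^ f₁ : ℕ) : ℤ) ^ 2 + ((2 ^ f₁ : ℕ) : ℤ) ^ 4 := by
        refine ⟨_, Int.toNat_of_nonneg ?_⟩
        nlinarith [sq_nonneg (((2 ^ f₁ : ℕ) : ℤ) ^ 2 - 1)]
      have h1 := zpow_eq (p := 2) (show f₁ * 2 = f * 5 by omega)
      have h2 := zpow_eq (p := 2) (show f₁ * 4 = f * 10 by omega)
      have hN' : (N : ℤ) = ((2 ^ f : ℕ) : ℤ) ^ 10 - ((2 ^ f : ℕ) : ℤ) ^ 5 + 1 := by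
        rw [hN, h1, h2]; ring
      have h9 := Int.natCast_dvd_natCast.2 (prim_dvd_big (by omega) hr hN')
      rw [hN] at h9
      have h10 : (2 * (2 ^ m : ℤ) ^ 2) = ((2 ^ f₁ : ℕ) : ℤ) := by exact_mod_cast hQ
      rw [h10]
      exact h9
    exact_mod_cast h5
  rcases hr.prime.dvd_mul.1 hprod with h5 | h5
  · have h6 := orderOf_dvd_of_card (big_TF4_plus hF' hm hr.prime h5).card (w := φ x) hr.prime (by rw [hx']; exact hrx)
    rw [hx'] at h6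
    have h7 := Nat.le_of_dvd (by omega) h6
    omega
  · have h6 := orderOf_dvd_of_card (big_TF4_minus hF' hm hr.prime h5).card (w := φ x) hr.prime (by rw [hx']; exact hrx)
    rw [hx'] at h6
    have h7 := Nat.le_of_dvd hpos h6
    omega

end Kill

end Cfsg.Agent.H363.Wei
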