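import Cfsg.Agent.H363.Wei.Core30
import Cfsg.Agent.H363.Wei.Kill30
import Cfsg.Agent.H363.Wei.Kill30b
import Cfsg.Agent.H290.Wei.TopElt
import Cfsg.Agent.H290.Wei.CharOne
import Cfsg.Agent.H56.Wei.Gen

/-!
# The overgroups of the torus of order `Φ₃₀(q)` in `E₈(q)` (helper363)

`over_E8'` : an element of order `Φ₃₀(q)` lies in no proper subgroup outside the normaliser of the torus, provided that
`U₃(32)` is not a subgroup of `E₈(2)`.
-/

set_option autoImplicit false

namespace Cfsg.Agent.H363.Wei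

open Cfsg Cfsg.Agent.OrdDiv Cfsg.Agent.H436 Cfsg.Agent.H56.Exc Cfsg.Agent.H290.Wei Cfsg.Agent.H56.Wei
open Cfsg.Agent.H290.Cov30 (ncl Ph Cls prim_of_dvd dvd_ncl ncl_dvd_Ph cast_Ph30 ncl30_eq ncl30_gt Ph_dvd good_E8 Ph30_ge)
open Cfsg.Agent.H563.KG (CF lt_of_prim)

/-- the exceptional case -/
def NoU : Prop := ∀ (F : Type) [Field F] [Fintype F], Fintype.card F = 2 → ∀ (H : Subgroup ↥(Lie.chevE8.group F))
  (S : Subgroup H), ¬ IsNamed (.psu 3 (2 ^ 5)) S

variable {F : Type} [Field F] [Fintype F]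

/-- **The overgroups of the torus.** -/
theorem over_chevE8 (tb : OrderTable.{0}) (hcyc : CycFixSolv.{0}) (hcf : CF) (hNU : NoU)
    {x : ↥(Lie.chevE8.group F)} (hx : orderOf x = Ph 30 (Fintype.card F))
    (H : Subgroup ↥(Lie.chevE8.group F)) (hxH : x ∈ H) (hH : H ≠ ⊤) :
    H ≤ Subgroup.normalizer (Subgroup.zpowers x : Set ↥(Lie.chevE8.group F)) := by
  obtain ⟨p, f, _, hp, hf, hq⟩ := Cfsg.Agent.H563.KG.exists_pf F
  rw [hq] at hx
  have hq2 : 2 ≤ p ^ f := hp.two_le.trans (Nat.le_self_pow (by omega) p)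
  have hq1 : 1 ≤ p ^ f := by omega
  rcases core30 tb hcyc hcf hp hf hq hx H hxH with h | ⟨S, hSn, hSs, hSna, hC, hxS, hbig, g, hg, hch⟩
  · exact h
  exfalso
  have hT := named_T (F := F) tb hq
  have hdS : Nat.card S ∣ num (.e8 (p ^ f)) := Cfsg.Agent.H264.FKS.IsNamed.card_dvd hT S
  obtain ⟨r, hr⟩ := exists_prim hq2 (show 3 ≤ 30 by norm_num) (by omega)
  have hb := hbig r hr
  have hxo : orderOf (⟨⟨x, hxH⟩, hxS⟩ : S) = Ph 30 (p ^ f) := by
    rw [Subgroup.orderOf_mk, Subgroup.orderOf_mk, hx]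
  -- primes of other classes do not divide
  have hno : ∀ {e u : ℕ}, e ≠ 30 → Prim (p ^ f) e u → ¬ u ∣ Ph 30 (p ^ f) := fun he hu hd =>
    he (hu.unique ((prim_iff hq1).1 ⟨hu.prime, hd⟩))
  obtain ⟨u, hu⟩ := exists_prim hq2 (show 3 ≤ 10 by norm_num) (by omega)
  have hu' := hno (by norm_num) hu
  obtain ⟨v, hv⟩ := exists_prim hq2 (show 3 ≤ 15 by norm_num) (by omega)
  have hv' := hno (by norm_num) hv
  have hz : Cfsg.Agent.H946.KZ.ZT p f 30 (Nat.card S) := by
    intro s hs
    have h1 : Prim (p ^ f) 30 s := Cfsg.Agent.H290.ElCross.Prim.powBase hf (by rw [mul_comm]; exact hs)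
    have h2 : s ∣ Ph 30 (p ^ f) := ((prim_iff hq1).2 h1).2
    rw [← hxo] at h2
    exact h2.trans (orderOf_dvd_natCard _)
  obtain ⟨f₁, hf₁, h⟩ := charp_e8_30 hp hf hg.cond hch hg.eq hdS hz
  have h6 : p ^ f ≠ 2 → ∃ w, Prim (p ^ f) 6 w := fun h2 => exists_prim hq2 (by norm_num) (by omega)
  have hp2 : p ^ f = 2 → p = 2 ∧ f = 1 := by
    intro h2
    have h3 : p ∣ 2 := by rw [← h2]; exact dvd_pow_self p (by omega)
    have h4 : p = 2 := (Nat.prime_dvd_prime_iff_eq hp Nat.prime_two).1 h3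
    subst h4
    exact ⟨rfl, Nat.pow_right_injective (le_refl 2) (h2.trans (pow_one 2).symm)⟩
  rcases h with ⟨e1, rfl⟩ | ⟨e1, rfl⟩ | ⟨e1, rfl⟩ | ⟨e1, rfl⟩ | ⟨e1, rfl⟩ | ⟨e1, rfl⟩ | ⟨e1, rfl⟩ | ⟨e1, rfl⟩ | ⟨e1, rfl⟩ |
    ⟨e1, rfl⟩ | ⟨e1, rfl⟩ | ⟨e1, rfl⟩ | ⟨e1, rfl⟩ | ⟨e1, rfl⟩ | ⟨e1, rfl⟩ | ⟨e1, rfl⟩ | ⟨e1, rfl⟩ | ⟨e1, rfl⟩ | ⟨e1, rfl⟩ |
    ⟨e1, rfl⟩ | ⟨e1, rfl⟩ | ⟨e1, rfl⟩
  · -- psl 2
    exact hu' (kill_psl (a := 1) (b := 15) (j := 30) hr hu (by norm_num) hb hg e1 (by norm_num) (by norm_num)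
      (by omega) (by norm_num) (by norm_num))
  · -- psl 3
    exact hv' (kill_psl (a := 1) (b := 10) (j := 30) hr hv (by norm_num) hb hg e1 (by norm_num) (by norm_num)
      (by omega) (by norm_num) (by norm_num))
  · -- psl 5
    exact hv' (kill_psl (a := 1) (b := 6) (j := 30) hr hv (by norm_num) hb hg e1 (by norm_num) (by norm_num)
      (by omega) (by norm_num) (by norm_num))
  · -- psp 2
    exact hu' (kill_psp (j := 15) hr hu (by norm_num) (by norm_num) (by norm_num) hb hg (by norm_num) (by omega)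
      (by norm_num) (by norm_num) (by norm_num) (by norm_num))
  · -- psp 3
    exact hu' (kill_psp (j := 15) hr hu (by norm_num) (by norm_num) (by norm_num) hb hg (by norm_num) (by omega)
      (by norm_num) (by norm_num) (by norm_num) (by norm_num))
  · -- psp 5
    exact hu' (kill_psp (j := 15) hr hu (by norm_num) (by norm_num) (by norm_num) hb hg (by norm_num) (by omega)
      (by norm_num) (by norm_num) (by norm_num) (by norm_num))
  · -- oodd 3
    exact hu' (kill_oodd (j := 15) hr hu (by norm_num) (by norm_num) (by norm_num) hb hg (by omega)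
      (by norm_num) (by norm_num) (by norm_num) (by norm_num))
  · -- oodd 5
    exact hu' (kill_oodd (j := 15) hr hu (by norm_num) (by norm_num) (by norm_num) hb hg (by omega)
      (by norm_num) (by norm_num) (by norm_num) (by norm_num))
  · -- psu 3
    by_cases h2 : p ^ f = 2
    · obtain ⟨rfl, rfl⟩ := hp2 h2
      have e2 : f₁ = 5 := by omega
      rw [e2] at hg
      exact hNU F (by rw [hq, h2]) H S hg
    · obtain ⟨w, hw⟩ := h6 h2
      exact hno (by norm_num) hw (kill_psu (k := 3) (j := 15) (a := 1) (b := 10) hr hw (by norm_num) hb hg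
        (by decide) (by norm_num) (by omega) (by norm_num) (by norm_num) (by norm_num) (by norm_num) (by omega)
        (by norm_num) (by norm_num))
  · -- psu 4
    by_cases h2 : p ^ f = 2
    · obtain ⟨rfl, rfl⟩ := hp2 h2
      have e2 : f₁ = 5 := by omega
      rw [e2] at hg
      exact kill_ord hg hdS ord_psu4
    · obtain ⟨w, hw⟩ := h6 h2
      exact hno (by norm_num) hw (kill_psu (k := 3) (j := 15) (a := 1) (b := 10) hr hw (by norm_num) hb hg
        (by decide) (by norm_num) (by omega) (by norm_num) (by norm_num) (by norm_num) (by norm_num) (by omega)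
        (by norm_num) (by norm_num))
  · -- psu 5
    exact hu' (kill_psu (k := 5) (j := 15) (a := 1) (b := 6) hr hu (by norm_num) hb hg
        (by decide) (by norm_num) (by omega) (by norm_num) (by norm_num) (by norm_num) (by norm_num) (by omega)
        (by norm_num) (by norm_num))
  · -- psu 6
    exact hu' (kill_psu (k := 5) (j := 15) (a := 1) (b := 6) hr hu (by norm_num) hb hg
        (by decide) (by norm_num) (by omega) (by norm_num) (by norm_num) (by norm_num) (by norm_num) (by omega)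
        (by norm_num) (by norm_num))
  · -- oplus 4
    exact hu' (kill_oplus (j := 15) hr hu (by norm_num) (by norm_num) (by norm_num) hb hg (by omega)
      (by norm_num) (by norm_num) (by norm_num) (by norm_num))
  · -- oplus 6
    exact hu' (kill_oplus (j := 15) hr hu (by norm_num) (by norm_num) (by norm_num) hb hg (by omega)
      (by norm_num) (by norm_num) (by norm_num) (by norm_num))
  · -- ominus 5
    exact hu' (kill_ominus (j := 15) hr hu (by norm_num) (by norm_num) (by norm_num) hb hg (by omega)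
      (by norm_num) (by norm_num) (by norm_num) (by norm_num))
  · exact kill_g2 hp hf hg e1 hr hb.card
  · exact kill_f4 hp hf hg e1 hr hb.card
  · -- e8
    have e2 : f₁ = f := by omega
    subst e2
    have h1 := hg.eq
    have h2 := hT.eq
    have h3 : Nat.card S = Nat.card ↥(Lie.chevE8.group F) := by
      have hd : 0 < den (.e8 (p ^ f₁)) := by
        show 0 < 1
        norm_num
      exact Nat.eq_of_mul_eq_mul_left hd (h1.trans h2.symm)
    apply hH
    apply Subgroup.eq_top_of_card_eq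
    refine le_antisymm (Nat.le_of_dvd Nat.card_pos (Subgroup.card_subgroup_dvd_card H)) ?_
    rw [← h3]
    exact Nat.le_of_dvd Nat.card_pos (Subgroup.card_subgroup_dvd_card S)
  · exact kill_td4 hp hf hg e1 hr hb.card
  · exact kill_sz hp hf hg e1 hxo
  · exact kill_ree hp hf hg e1 hxo
  · exact kill_tf4 hp hf hg e1 hr hxo

end Cfsg.Agent.H363.Wei
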