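import Cfsg.Agent.H363.Wei.Over30
import Cfsg.Agent.H862.Spr.Rows

/-!
# The overgroups of the torus of order `Φ₃₀(q)`: abstract form, and the row `E₈` of S3938 (helper363)
-/

set_option autoImplicit false

namespace Cfsg.Agent.H363.Wei

open Cfsg Cfsg.Agent.OrdDiv Cfsg.Agent.H436 Cfsg.Agent.H56.Exc Cfsg.Agent.H56.Wei
open Cfsg.Agent.H290.Cov30 (Ph cast_Ph30 Ph30_ge exists_gen Ph30_eq)
open Cfsg.Agent.H563.KG (CF)

/-- the existence of the torus -/
theorem exists_tor30 {q : ℕ} {T : Type*} [Group T] (hT : IsNamed (.e8 q) T) : ∃ x : T, orderOf x = Ph 30 q := by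
  obtain ⟨F, _, _, hF, ⟨φ⟩⟩ := hT.real
  have hq2 : 2 ≤ q := by rw [← hF]; exact Fintype.one_lt_card
  obtain ⟨r, hr⟩ := exists_prim hq2 (show 3 ≤ 30 by norm_num) (by omega)
  have h1 := ((prim_iff (q := q) (by omega)).2 hr).2
  have hm : ((Ph 30 q : ℕ) : ℤ) = 1 + (q : ℤ) - (q : ℤ) ^ 3 - (q : ℤ) ^ 4 - (q : ℤ) ^ 5 + (q : ℤ) ^ 7 + (q : ℤ) ^ 8 := by
    rw [cast_Ph30 ℤ (by omega)]; ring
  obtain ⟨w, hw⟩ := exists_gen (Cfsg.Agent.H129.CycCard.card_E8_30 hF hm hr.prime
    (by rw [← hm]; exact Int.natCast_dvd_natCast.2 h1))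
  exact ⟨φ.symm w, by rw [← hw]; exact φ.symm.orderOf_eq w⟩

/-- **Every proper overgroup of the torus normalises it.** -/
theorem over_E8_le (tb : OrderTable.{0}) (hcyc : CycFixSolv.{0}) (hcf : CF) (hNU : NoU) {q : ℕ} {T : Type*} [Group T]
    (hT : IsNamed (.e8 q) T) {x : T} (hx : orderOf x = Ph 30 q) (H : Subgroup T) (hxH : x ∈ H) (hH : H ≠ ⊤) :
    H ≤ Subgroup.normalizer (Subgroup.zpowers x : Set T) := by
  obtain ⟨F, _, _, hF, ⟨φ⟩⟩ := hT.real
  subst hF
  have h1 : orderOf (φ x) = Ph 30 (Fintype.card F) := by rw [← hx]; exact φ.orderOf_eq x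
  have h2 : H.map φ.toMonoidHom ≠ ⊤ := by
    intro h
    apply hH
    rw [eq_top_iff]
    intro y _
    have h3 : φ y ∈ H.map φ.toMonoidHom := by rw [h]; trivial
    obtain ⟨z, hz, hzy⟩ := h3
    have : z = y := φ.injective hzy
    rwa [← this]
  have h3 := over_chevE8 tb hcyc hcf hNU h1 (H.map φ.toMonoidHom) ⟨x, hxH, rfl⟩ h2
  intro y hy
  have h4 := h3 ⟨y, hy, rfl⟩
  have h5 := (Subgroup.mem_normalizer_iff.1 h4 (φ x)).1 (Subgroup.mem_zpowers _)
  have hfin : Finite T := Finite.of_equiv _ φ.symm.toEquiv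
  refine mem_norm_zpowers ?_
  obtain ⟨k, hk⟩ := h5
  refine ⟨k, φ.injective ?_⟩
  simpa using hk

theorem over_E8 (tb : OrderTable.{0}) (hcyc : CycFixSolv.{0}) (hcf : CF) (hNU : NoU) {q : ℕ} {T : Type*} [Group T]
    (hT : IsNamed (.e8 q) T) {x : T} (hx : orderOf x = Ph 30 q) : Over x (fun _ => False) :=
  fun H hxH hH => Or.inl (over_E8_le tb hcyc hcf hNU hT hx H hxH hH)

/-- the torus is a Hall subgroup of its normaliser -/
theorem coprime_E8 {q : ℕ} {T : Type*} [Group T] (hT : IsNamed (.e8 q) T) {x : T} (hx : orderOf x = Ph 30 q) :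
    Nat.Coprime (orderOf x)
      ((Subgroup.zpowers x).relIndex (Subgroup.normalizer (Subgroup.zpowers x : Set T))) := by
  obtain ⟨F, _, _, hF, ⟨φ⟩⟩ := hT.real
  have hfin : Finite T := Finite.of_equiv _ φ.symm.toEquiv
  have hq2 : 2 ≤ q := by rw [← hF]; exact Fintype.one_lt_card
  have hpos : 0 < Ph 30 q := by have := Ph30_ge hq2; omega
  obtain ⟨r, hr⟩ := exists_prim hq2 (show 3 ≤ 30 by norm_num) (by omega)
  have hb : Big T r (Ph 30 q) 30 := (big30 hF hr).congr φ.symm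
  have hrx : r ∣ orderOf x := by rw [hx]; exact ((prim_iff (q := q) (by omega)).2 hr).2
  obtain ⟨z, hz, hzr⟩ := exists_prime_pow hr.prime hrx
  -- the normaliser of `⟨x⟩` normalises `⟨z⟩`
  have hle : Subgroup.normalizer (Subgroup.zpowers x : Set T) ≤ Subgroup.normalizer (Subgroup.zpowers z : Set T) := by
    intro g hg
    refine mem_norm_zpowers ?_
    have h1 : g * z * g⁻¹ ∈ Subgroup.zpowers x := (Subgroup.mem_normalizer_iff.1 hg z).1 hz
    refine mem_zpowers_of_cyclic (C := Subgroup.zpowers x) inferInstance hz h1 ?_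
    rw [← MulAut.conj_apply, (MulAut.conj g).orderOf_eq z]
  have h1 := (Subgroup.card_dvd_of_le hle).trans (hb.card_normalizer_dvd hzr)
  have h2 : Nat.card (Subgroup.zpowers x) *
      (Subgroup.zpowers x).relIndex (Subgroup.normalizer (Subgroup.zpowers x : Set T)) =
      Nat.card ↥(Subgroup.normalizer (Subgroup.zpowers x : Set T)) := by
    have h3 := Subgroup.relIndex_mul_relIndex (H := ⊥) (K := Subgroup.zpowers x)
      (L := Subgroup.normalizer (Subgroup.zpowers x : Set T)) bot_le Subgroup.le_normalizer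
    rw [Subgroup.relIndex_bot_left, Subgroup.relIndex_bot_left] at h3
    exact h3
  rw [← h2, Nat.card_zpowers, hx, mul_comm 30] at h1
  have h4 := Nat.dvd_of_mul_dvd_mul_left hpos h1
  rw [hx]
  refine Nat.Coprime.coprime_dvd_right h4 ?_
  refine Nat.coprime_of_dvd fun s hs hs1 hs2 => ?_
  have h5 := (prim_iff (q := q) (by omega)).1 ⟨hs, hs1⟩
  have h6 := Cfsg.Agent.H563.KG.lt_of_prim hq2 (by norm_num) h5
  have h7 := Nat.le_of_dvd (by norm_num) hs2
  omega

/-- **The row `E₈` of S3938.** -/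
theorem row_E8 (tb : OrderTable.{0}) (hcyc : CycFixSolv.{0}) (hcf : CF) (hNU : NoU) {q : ℕ} :
    Cfsg.Agent.H862.Spr.Row (.e8 q) := by
  intro T _ _ hs hT
  obtain ⟨x, hx⟩ := exists_tor30 hT
  obtain ⟨F, _, _, hF, ⟨φ⟩⟩ := hT.real
  have hq2 : 2 ≤ q := by rw [← hF]; exact Fintype.one_lt_card
  have hgt := Ph30_ge hq2
  have h8 : 2 ^ 8 ≤ q ^ 8 := Nat.pow_le_pow_left hq2 8
  obtain ⟨r, hr⟩ := exists_prim hq2 (show 3 ≤ 30 by norm_num) (by omega)
  have hb : Big T r (Ph 30 q) 30 := (big30 hF hr).congr φ.symm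
  have hx1 : Subgroup.zpowers x ≠ ⊥ := by
    rw [Ne, Subgroup.zpowers_eq_bot]
    rintro rfl
    rw [orderOf_one] at hx
    omega
  have hcard : Nat.card T = num (.e8 q) := by
    have := hT.eq
    rwa [show den (.e8 q) = 1 from rfl, one_mul] at this
  have hne : Subgroup.zpowers x ≠ ⊤ := by
    intro h
    have h1 : Nat.card T = Ph 30 q := by
      rw [← Subgroup.card_top, ← h, Nat.card_zpowers, hx]
    have h2 : q ∣ Ph 30 q := by
      rw [← h1, hcard]
      show q ∣ q ^ 120 * _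
      exact (dvd_pow_self q (by norm_num)).mul_right _
    have h3 := Ph30_eq (q := q) (by omega)
    have h4 : q ∣ q ^ 8 + q ^ 7 + q + 1 := by
      rw [← h3]
      refine (Nat.dvd_add_right h2).2 ?_
      refine Dvd.dvd.add (Dvd.dvd.add ?_ ?_) ?_ <;> exact dvd_pow_self q (by norm_num)
    have h5 : q ∣ q ^ 8 + q ^ 7 + q := by
      refine Dvd.dvd.add (Dvd.dvd.add ?_ ?_) dvd_rfl <;> exact dvd_pow_self q (by norm_num)
    have h6 : q ∣ 1 := (Nat.dvd_add_right h5).1 h4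
    have := Nat.le_of_dvd one_pos h6
    omega
  refine Cfsg.Agent.H424.Spr.spr_of_one (s := x) (M := Subgroup.normalizer (Subgroup.zpowers x : Set T)) ?_ ?_
    fun K hxK hK => over_E8_le tb hcyc hcf hNU hT hx K hxK hK
  · by_contra hcon
    push Not at hcon
    have h1 : (Subgroup.zpowers x).Normal := ⟨fun a ha g => by
      rw [hcon g a, mul_inv_cancel_right]
      exact ha⟩
    rcases hs.eq_bot_or_eq_top_of_normal _ h1 with h2 | h2
    · exact hx1 h2
    · exact hne h2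
  · intro h
    have h1 : (Subgroup.zpowers x).Normal := Subgroup.normalizer_eq_top_iff.1 h
    rcases hs.eq_bot_or_eq_top_of_normal _ h1 with h2 | h2
    · exact hx1 h2
    · exact hne h2

end Cfsg.Agent.H363.Wei
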